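/-!
Generated data for the uniqueness of the Hall-Janko group: certificate Q.
-/

set_option autoImplicit false
set_option maxRecDepth 100000

namespace CfsgLib.JTwoUniq.Data

/-- Edges. -/
def tblQ : List Nat := [
  0x705000f000204000f000403000f000802000f000c01000f000f00000f000205000e000704000e000903000e000a02000e000d01000e000e00000e000505000d000604000d000803000d000402000d000e01000d000d00000d000605000c000504000c000a03000c000902000c000f01000c000c00000c000805000b000a04000b000503000b000702000b000301000b000b00000b000105000a000b04000a000c03000a000e02000a000401000a000a00000a00030500090000040009000e030009000c02000900080100090009000009000b0500080001040008000d030008000f02000800090100080008000008000f050007000e0400070000030007000b02000700060100070007000007000c050006000d0400060001030006000302000600070100060006000006000d050005000c040005000b03000500000200050002010005000500000500000500040003040004000f030004000d020004000a01000400040000040009050003000404000300020300030006020003000b0100030003000003000e050002000f0400020003030002000102000200050100020002000002000a05000100080400010006030001000202000100000100010001000001000405000000090400000007030000000502000000010100000000000000000704000e000605000c000c00000c000d030008001b06000c001b020009000b020007000504001b001b01000f000505000d000604000d000d00000d000d020004000b04000a000c03000a000d01000e000906001a000f060014000c060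017000d060016000805000b0003040004000503000b000b00000b000b010003000e00000e000e060015000705001400140000140019060014000e03001a001a050003001903000400030000030018060003000e02000a00190200080018020006000e01000d0002040019001901000c0002030018001801000b000205000e000a00000a001006000a000b05000800080000080013060008001003001700170500060013030016001604000600060000060012060006001002001500150500020013020014001404000200120200030002000002001106000200100100040001040013001301000900010300120012010007000102001100110100050001050010001004000b00040000040004050000000305000900090000090009040000000403000f000f050007000903000e000e04000700070000070007030000000402000d000d050005000902000c000c040005000702000b000b03000500050000050005020000000401000a000a0500010000040009000901000800080400010000030007000701000600060300010000020005000501000200010000010000010001000005000400040400030003030002000202000100010100000000000000]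

/-- Tree. -/
def parQ : List Nat := [
  0x2000f0a000302000c02000b0a00060800060a000208000202000902000702000508000b0a00070800070a00050800050600050a000102000808000102000606000102000208000306000204000102000000ffff]

/-- Live points. -/
def liveQ : List Nat := [
  0, 1, 2, 3, 4, 5, 6, 7, 8, 9, 10, 11, 12, 13, 14, 15]

/-- Final edges. -/
def goalsQ : List Nat := [
  0x710070006f006e006d006c0006,
  0x77007600750074007300720006,
  0x7d007c007b007a007900780006,
  0x83008200810080007f007e0006,
  0x89008800870086008500840006,
  0x8f008e008d008c008b008a0006,
  0x95009400930092009100900006,
  0x9b009a00990098009700960006,
  0xa100a0009f009e009d009c0006,
  0xa700a600a500a400a300a20006,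
  0xad00ac00ab00aa00a900a80006,
  0xb300b200b100b000af00ae0006,
  0xb900b800b700b600b500b40006,
  0xbf00be00bd00bc00bb00ba0006,
  0xc500c400c300c200c100c00006,
  0xcb00ca00c900c800c700c60006]


end CfsgLib.JTwoUniq.Data
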