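/-!
Generated data for the uniqueness of the Hall-Janko group: relators.
-/

set_option autoImplicit false
set_option maxRecDepth 100000

namespace CfsgLib.JTwoUniq.Data

/-- Relators. -/
def relC : List (List Nat) := [
  [0, 0],
  [12, 12, 12],
  [14, 14],
  [12, 14, 12, 14, 12, 14, 12, 14, 12, 14],
  [2, 4, 6, 8, 10],
  [2, 2],
  [0, 2, 1, 3],
  [2, 4, 2, 4, 0],
  [2, 6, 2, 6, 0],
  [2, 8, 2, 8, 0],
  [2, 10, 2, 10, 0],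
  [4, 4],
  [0, 4, 1, 5],
  [4, 6, 4, 6, 0],
  [4, 8, 4, 8, 0],
  [4, 10, 4, 10, 0],
  [6, 6],
  [0, 6, 1, 7],
  [6, 8, 6, 8, 0],
  [6, 10, 6, 10, 0],
  [8, 8],
  [0, 8, 1, 9],
  [8, 10, 8, 10, 0],
  [10, 10],
  [0, 10, 1, 11],
  [0, 12, 1, 13],
  [12, 2, 13, 3],
  [12, 4, 13, 5],
  [12, 6, 13, 9],
  [12, 8, 13, 11],
  [12, 10, 13, 7],
  [0, 14, 1, 15],
  [14, 2, 15, 7],
  [14, 4, 15, 11],
  [14, 6, 15, 3],
  [14, 8, 15, 9],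
  [14, 10, 15, 5],
  [16, 15, 13, 13, 15, 13, 15, 13, 13, 15, 13, 15],
  [18, 15, 13, 15, 13, 13, 15]]

/-- Relators. -/
def relD : List (List Nat) := [
  [16, 16],
  [18, 18],
  [0, 16, 1, 17],
  [16, 2, 17, 5],
  [16, 4, 17, 3],
  [16, 6, 17, 7],
  [16, 8, 17, 11],
  [16, 10, 17, 9],
  [0, 18, 1, 19],
  [18, 2, 19, 3],
  [18, 4, 19, 7],
  [18, 6, 19, 5],
  [18, 8, 19, 11],
  [18, 10, 19, 9],
  [16, 12, 16, 12],
  [12, 18, 13, 15, 17, 15]]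

/-- Relators. -/
def relT : List (List Nat) := [
  [20, 20, 20],
  [22, 17, 21, 16],
  [20, 0, 21, 3],
  [20, 2, 21, 3, 1],
  [20, 12, 21, 13],
  [20, 18, 21, 19],
  [20, 4, 6, 21, 13, 19, 13, 13, 9, 5],
  [4, 20, 4, 20, 13],
  [22, 0, 23, 5],
  [22, 4, 23, 5, 1],
  [22, 12, 12, 23, 13, 13],
  [22, 16, 18, 16, 23, 17, 19, 17],
  [22, 2, 6, 23, 19, 15, 17, 13, 11, 3],
  [22, 22, 22],
  [20, 12, 21, 13],
  [22, 12, 23, 13],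
  [20, 18, 21, 18],
  [20, 0, 21, 2],
  [20, 2, 21, 2, 0]]

/-- Relators. -/
def relQ : List (List Nat) := [
  [0, 0],
  [2, 4, 6, 8, 10],
  [2, 2],
  [0, 2, 1, 3],
  [2, 4, 2, 4, 0],
  [2, 6, 2, 6, 0],
  [2, 8, 2, 8, 0],
  [2, 10, 2, 10, 0],
  [4, 4],
  [0, 4, 1, 5],
  [4, 6, 4, 6, 0],
  [4, 8, 4, 8, 0],
  [4, 10, 4, 10, 0],
  [6, 6],
  [0, 6, 1, 7],
  [6, 8, 6, 8, 0],
  [6, 10, 6, 10, 0],
  [8, 8],
  [0, 8, 1, 9],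
  [8, 10, 8, 10, 0],
  [10, 10],
  [0, 10, 1, 11]]

/-- The last relator. -/
def wordJ : List Nat := [22, 20, 4, 23, 22, 20, 4, 23, 22, 20, 4, 23, 18, 22, 5, 21, 23, 22, 5, 21, 23, 22, 5, 21, 23, 18]

/-- The last relator. -/
def wordK : List Nat := [22, 21, 4, 23, 22, 21, 4, 23, 22, 21, 4, 23, 18, 22, 5, 20, 23, 22, 5, 20, 23, 22, 5, 20, 23, 18]

/-- The word of `g`. -/
def wordG : List Nat := [14, 12, 14, 12, 12, 14, 12, 14, 12, 12, 14]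

/-- The word of `t`. -/
def wordT : List Nat := [14, 12, 12, 14, 12, 14]

end CfsgLib.JTwoUniq.Data
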