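/-!
Generated data for the uniqueness of the Hall-Janko group: generators of the group on 100 points.
-/

set_option autoImplicit false
set_option maxRecDepth 100000

namespace CfsgLib.JTwoUniq.Data

/-- The generators as products of involutions of the class. -/
def wit : List (List Nat) := [
  [0],
  [308],
  [313],
  [305],
  [312],
  [309],
  [0, 159, 178, 233],
  [2, 4, 72, 280],
  [1, 8, 80, 112],
  [2, 7, 127, 214],
  [19, 129],
  [19, 135]]

/-- Words of the four generating involutions. -/
def genW : List (List Nat) := [
  [0],
  [20, 22, 20, 2, 22, 0, 23, 3, 21, 23, 21],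
  [16, 14, 8, 22, 20, 0, 21, 23, 9, 15, 17],
  [16, 14, 2, 22, 20, 0, 21, 23, 3, 15, 17]]

end CfsgLib.JTwoUniq.Data
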